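import Mathlib

/-!
# Ind-objects of cofinite type: abstract theory, part 1 (torsion subobjects)
-/

set_option autoImplicit false

open CategoryTheory CategoryTheory.Limits

universe v u

namespace Groth.Agent.H3.IndCof

variable {𝒜 : Type u} [Category.{v} 𝒜] [Abelian 𝒜]

/-- the `m`-torsion subobject -/
noncomputable abbrev tor (A : 𝒜) (m : ℕ) : 𝒜 := kernel (m • 𝟙 A)

/-- the inclusion of the `m`-torsion subobject -/
noncomputable abbrev torι (A : 𝒜) (m : ℕ) : tor A m ⟶ A := kernel.ι (m • 𝟙 A)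

lemma comp_nsmul_id {T A : 𝒜} (x : T ⟶ A) (m : ℕ) : x ≫ (m • 𝟙 A) = m • x := by
  rw [Preadditive.comp_nsmul, Category.comp_id]

lemma nsmul_id_comp {T A : 𝒜} (x : T ⟶ A) (m : ℕ) : (m • 𝟙 T) ≫ x = m • x := by
  rw [Preadditive.nsmul_comp, Category.id_comp]

lemma nsmul_torι (A : 𝒜) (m : ℕ) : m • torι A m = 0 := by
  rw [← comp_nsmul_id]; exact kernel.condition _

/-- lift a point killed by `m` to the `m`-torsion -/
noncomputable def torLift {T A : 𝒜} (m : ℕ) (x : T ⟶ A) (hx : m • x = 0) : T ⟶ tor A m :=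
  kernel.lift _ x (by rw [comp_nsmul_id, hx])

@[reassoc (attr := simp)]
lemma torLift_ι {T A : 𝒜} (m : ℕ) (x : T ⟶ A) (hx : m • x = 0) :
    torLift m x hx ≫ torι A m = x := kernel.lift_ι _ _ _

lemma nsmul_comp_torι {T A : 𝒜} (m : ℕ) (x : T ⟶ tor A m) : m • (x ≫ torι A m) = 0 := by
  rw [← Preadditive.comp_nsmul, nsmul_torι, comp_zero]

lemma nsmul_eq_zero_of_dvd {T A : 𝒜} {a b : ℕ} (h : a ∣ b) (x : T ⟶ A) (hx : a • x = 0) :
    b • x = 0 := by
  obtain ⟨c, rfl⟩ := h
  rw [mul_comm, mul_smul, hx, smul_zero]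

/-- the induced map on torsion -/
noncomputable def torMap {A B : 𝒜} (f : A ⟶ B) (m : ℕ) : tor A m ⟶ tor B m :=
  torLift m (torι A m ≫ f) (by rw [← Preadditive.nsmul_comp, nsmul_torι, zero_comp])

@[reassoc (attr := simp)]
lemma torMap_ι {A B : 𝒜} (f : A ⟶ B) (m : ℕ) : torMap f m ≫ torι B m = torι A m ≫ f :=
  torLift_ι _ _ _

instance {A B : 𝒜} (f : A ⟶ B) [Mono f] (m : ℕ) : Mono (torMap f m) := by
  have : Mono (torMap f m ≫ torι B m) := by rw [torMap_ι]; infer_instance
  exact mono_of_mono _ (torι B m)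

/-- multiplication by `c` from `A[c * n]` to `A[n]` -/
noncomputable def mulTor (A : 𝒜) (c n : ℕ) : tor A (c * n) ⟶ tor A n :=
  torLift n (c • torι A (c * n)) (by rw [← mul_smul, mul_comm, nsmul_torι])

@[reassoc (attr := simp)]
lemma mulTor_ι (A : 𝒜) (c n : ℕ) : mulTor A c n ≫ torι A n = c • torι A (c * n) :=
  torLift_ι _ _ _

/-- the torsion of isomorphic objects -/
noncomputable def torIso {A B : 𝒜} (e : A ≅ B) (m : ℕ) : tor A m ≅ tor B m where
  hom := torMap e.hom m
  inv := torMap e.inv m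
  hom_inv_id := by
    rw [← cancel_mono (torι A m)]; simp
  inv_hom_id := by
    rw [← cancel_mono (torι B m)]; simp

/-- the torsion of the torsion -/
noncomputable def torTorIso (A : 𝒜) (m : ℕ) : tor (tor A m) m ≅ tor A m where
  hom := torι _ m
  inv := torLift m (𝟙 _) (by
    rw [← cancel_mono (torι A m), Preadditive.nsmul_comp, Category.id_comp, nsmul_torι,
      zero_comp])
  hom_inv_id := by
    rw [← cancel_mono (torι _ m)]; simp
  inv_hom_id := by simp

end Groth.Agent.H3.IndCof
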