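import Mathlib
import Groth.Agent.Lib.Helper3.IndCof.IndCof1

/-!
# Ind-objects of cofinite type: abstract theory, part 2 (the stabilisation lemma)
-/

set_option autoImplicit false

open CategoryTheory CategoryTheory.Limits

universe v u

namespace Groth.Agent.H3.IndCof

variable {𝒜 : Type u} [Category.{v} 𝒜] [Abelian 𝒜]

/-- the abstract setting: a class `Cc` of "small" objects in an abelian category -/
structure Setup (Cc : ObjectProperty 𝒜) : Prop where
  of_iso : ∀ {X Y : 𝒜}, (X ≅ Y) → Cc X → Cc Y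
  ker : ∀ {X Y : 𝒜} (f : X ⟶ Y), Cc X → Cc Y → Cc (kernel f)
  coker : ∀ {X Y : 𝒜} (f : X ⟶ Y), Cc X → Cc Y → Cc (cokernel f)
  art : ∀ (X : 𝒜), Cc X → ∀ (S : ℕ → Subobject X), Antitone S → (∀ j, Cc (S j : 𝒜)) →
    ∃ N, ∀ m, N ≤ m → S m = S N
  exh : ∀ {A Z : 𝒜} (g : A ⟶ Z), (∀ m, 0 < m → torι A m ≫ g = 0) → g = 0

/-- objects of cofinite type -/
def CofType (Cc : ObjectProperty 𝒜) (A : 𝒜) : Prop := ∀ m, 0 < m → Cc (tor A m)

variable {Cc : ObjectProperty 𝒜} (hS : Setup Cc)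

include hS in
lemma Setup.image {X Y : 𝒜} (f : X ⟶ Y) (hX : Cc X) (hY : Cc Y) :
    Cc (imageSubobject f : 𝒜) := by
  have h1 : Cc (Abelian.image f) := hS.ker _ hY (hS.coker f hX hY)
  exact hS.of_iso ((Abelian.imageIsoImage f) ≪≫ (imageSubobjectIso f).symm) h1

include hS in
lemma CofType.of_iso {A B : 𝒜} (e : A ≅ B) (hA : CofType Cc A) : CofType Cc B :=
  fun m hm => hS.of_iso (torIso e m) (hA m hm)

include hS in
lemma CofType.of_Cc {A : 𝒜} (hA : Cc A) : CofType Cc A :=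
  fun _ _ => hS.ker _ hA hA

section stab

variable {A : 𝒜} (n : ℕ)

/-- the image of multiplication by `c` from `A[c * n]` to `A[n]` -/
noncomputable def Dsub (A : 𝒜) (n c : ℕ) : Subobject (tor A n) := imageSubobject (mulTor A c n)

lemma imageSubobject_le_of_fac {X X' Y : 𝒜} (f : X' ⟶ Y) (g : X ⟶ Y) (h : X' ⟶ X)
    (w : h ≫ g = f) : imageSubobject f ≤ imageSubobject g := by
  subst w; exact imageSubobject_comp_le _ _

lemma Dsub_le_of_dvd {c c' : ℕ} (h : c ∣ c') : Dsub A n c' ≤ Dsub A n c := by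
  obtain ⟨d, rfl⟩ := h
  refine imageSubobject_le_of_fac _ _ (torLift (c * n) (d • torι A (c * d * n)) (by
      rw [← mul_smul]
      have : c * n * d = c * d * n := by ring
      rw [this, nsmul_torι])) ?_
  rw [← cancel_mono (torι A n)]
  simp only [mulTor_ι, Category.assoc, Preadditive.comp_nsmul, torLift_ι]
  rw [← mul_smul]

/-- element-level consequence of an inclusion of images -/
lemma exists_of_Dsub_le {c c' : ℕ} (h : Dsub A n c ≤ Dsub A n c') {T : 𝒜} (x : T ⟶ A)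
    (hx : (c * n) • x = 0) :
    ∃ (T' : 𝒜) (π : T' ⟶ T) (_ : Epi π) (y : T' ⟶ A), (c' * n) • y = 0 ∧
      c • (π ≫ x) = c' • y := by
  let z : T ⟶ (Dsub A n c' : 𝒜) :=
    torLift (c * n) x hx ≫ factorThruImageSubobject (mulTor A c n) ≫ Subobject.ofLE _ _ h
  obtain ⟨T', π, hπ, y', hy'⟩ :=
    surjective_up_to_refinements_of_epi (factorThruImageSubobject (mulTor A c' n)) z
  refine ⟨T', π, hπ, y' ≫ torι A (c' * n), nsmul_comp_torι _ _, ?_⟩
  have h1 := congrArg (fun f => f ≫ (Dsub A n c').arrow ≫ torι A n) hy'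
  simp only [z, Dsub, Category.assoc, Subobject.ofLE_arrow_assoc,
    imageSubobject_arrow_comp_assoc, mulTor_ι, Preadditive.comp_nsmul,
    torLift_ι] at h1
  exact h1

end stab

section main

variable {A : 𝒜} (hA : CofType Cc A) (n : ℕ) (hn : 0 < n)

include hS hA hn in
lemma exists_stab : ∃ M, 0 < M ∧ ∀ s, 0 < s → Dsub A n (M * s) ≤ Dsub A n (M * s * n) := by
  have hanti : Antitone (fun j : ℕ => Dsub A n (j.factorial)) :=
    antitone_nat_of_succ_le (fun j =>
      Dsub_le_of_dvd n (Nat.factorial_dvd_factorial (Nat.le_succ j)))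
  have hCc : ∀ j : ℕ, Cc ((Dsub A n j.factorial : Subobject _) : 𝒜) := fun j =>
    hS.image _ (hA _ (Nat.mul_pos (Nat.factorial_pos j) hn)) (hA n hn)
  obtain ⟨j₀, hj₀⟩ := hS.art _ (hA n hn) _ hanti hCc
  refine ⟨j₀.factorial, Nat.factorial_pos _, fun s hs => ?_⟩
  have key : ∀ t, 0 < t → Dsub A n j₀.factorial ≤ Dsub A n (j₀.factorial * t) := by
    intro t ht
    have h1 : Dsub A n (max j₀ (j₀.factorial * t)).factorial = Dsub A n j₀.factorial :=
      hj₀ _ (le_max_left _ _)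
    rw [← h1]
    exact Dsub_le_of_dvd n (Nat.dvd_factorial (Nat.mul_pos (Nat.factorial_pos _) ht)
      (le_max_right _ _))
  calc Dsub A n (j₀.factorial * s) ≤ Dsub A n j₀.factorial :=
        Dsub_le_of_dvd n (dvd_mul_right _ _)
    _ ≤ Dsub A n (j₀.factorial * (s * n)) := key (s * n) (mul_pos hs hn)
    _ = Dsub A n (j₀.factorial * s * n) := by rw [mul_assoc]

lemma strip (M : ℕ) (hM : ∀ s, 0 < s → Dsub A n (M * s) ≤ Dsub A n (M * s * n)) (s : ℕ)
    (hs : 0 < s) (g : ℕ) (hg : g ∣ n) {T : 𝒜} (x : T ⟶ A) (hx : (M * s * g) • x = 0) :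
    ∃ (T' : 𝒜) (π : T' ⟶ T) (_ : Epi π) (x' y : T' ⟶ A), (M * s) • x' = 0 ∧
      π ≫ x = x' + n • y := by
  have hx' : (M * s * n) • x = 0 := nsmul_eq_zero_of_dvd (mul_dvd_mul_left _ hg) x hx
  obtain ⟨T', π, hπ, y, hy, h⟩ := exists_of_Dsub_le n (hM s hs) x hx'
  refine ⟨T', π, hπ, π ≫ x - n • y, y, ?_, by abel⟩
  rw [smul_sub, h, ← mul_smul]; exact sub_self _

lemma reduce (M : ℕ) (hM : ∀ s, 0 < s → Dsub A n (M * s) ≤ Dsub A n (M * s * n)) :
    ∀ s, 0 < s → ∀ {T : 𝒜} (x : T ⟶ A), (M * s) • x = 0 →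
      ∃ (T' : 𝒜) (π : T' ⟶ T) (_ : Epi π) (a b : T' ⟶ A), M • a = 0 ∧ π ≫ x = a + n • b := by
  intro s
  induction s using Nat.strong_induction_on with
  | _ s ih =>
    intro hs T x hx
    by_cases hg : Nat.gcd s n = 1
    · have hbez := Nat.gcd_eq_gcd_ab s n
      rw [hg] at hbez
      refine ⟨T, 𝟙 T, inferInstance, (Nat.gcdA s n) • (s • x), (Nat.gcdB s n) • x, ?_, ?_⟩
      · rw [smul_comm, ← mul_smul, hx, smul_zero]
      · rw [Category.id_comp]
        have h1 : ((s : ℤ) * Nat.gcdA s n + (n : ℤ) * Nat.gcdB s n) • x = x := by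
          rw [← hbez]; simp
        rw [add_smul, mul_comm (s : ℤ), mul_smul, mul_smul, natCast_zsmul, natCast_zsmul] at h1
        exact h1.symm
    · obtain ⟨s', hs'⟩ : Nat.gcd s n ∣ s := Nat.gcd_dvd_left _ _
      have hgpos : 0 < Nat.gcd s n := Nat.gcd_pos_of_pos_left _ hs
      have hs'pos : 0 < s' := by
        rcases Nat.eq_zero_or_pos s' with h | h
        · rw [h, mul_zero] at hs'; omega
        · exact h
      have hlt : s' < s := by
        have : 2 ≤ Nat.gcd s n := by omega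
        nlinarith
      have hx2 : (M * s' * Nat.gcd s n) • x = 0 := by
        have : M * s' * Nat.gcd s n = M * s := by rw [mul_assoc, mul_comm s', ← hs']
        rw [this]; exact hx
      obtain ⟨T₁, π₁, hπ₁, x', y, hx', hxy⟩ :=
        strip n M hM s' hs'pos _ (Nat.gcd_dvd_right s n) x hx2
      obtain ⟨T₂, π₂, hπ₂, a, b, ha, hab⟩ := ih s' hlt hs'pos x' hx'
      refine ⟨T₂, π₂ ≫ π₁, epi_comp _ _, a, b + π₂ ≫ y, ha, ?_⟩
      rw [Category.assoc, hxy, Preadditive.comp_add, hab, Preadditive.comp_nsmul, smul_add]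
      abel

include hS hA hn in
/-- **Stabilisation**: `A = A[M] + n A` for some `M`. -/
theorem exists_decomp : ∃ M, 0 < M ∧ ∀ {T : 𝒜} (x : T ⟶ A), ∃ (T' : 𝒜) (π : T' ⟶ T)
    (_ : Epi π) (a b : T' ⟶ A), M • a = 0 ∧ π ≫ x = a + n • b := by
  obtain ⟨M, hMpos, hM⟩ := exists_stab hS hA n hn
  refine ⟨M, hMpos, ?_⟩
  have hφ : Epi (biprod.desc (torι A M) (n • 𝟙 A)) := by
    apply Abelian.epi_of_cokernel_π_eq_zero
    apply hS.exh
    intro m hm
    obtain ⟨T', π, hπ, a, b, ha, hab⟩ := reduce n M hM m hm (torι A m)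
      (by rw [mul_smul, nsmul_torι, smul_zero])
    rw [← cancel_epi π, comp_zero, ← Category.assoc, hab]
    have : a + n • b = biprod.lift (torLift M a ha) b ≫ biprod.desc (torι A M) (n • 𝟙 A) := by
      simp
    rw [this, Category.assoc, cokernel.condition, comp_zero]
  intro T x
  obtain ⟨T', π, hπ, z, hz⟩ := surjective_up_to_refinements_of_epi
    (biprod.desc (torι A M) (n • 𝟙 A)) x
  refine ⟨T', π, hπ, (z ≫ biprod.fst) ≫ torι A M, z ≫ biprod.snd, nsmul_comp_torι _ _, ?_⟩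
  rw [hz]
  have : z = biprod.lift (z ≫ biprod.fst) (z ≫ biprod.snd) := by ext <;> simp
  conv_lhs => rw [this]
  simp

end main

end Groth.Agent.H3.IndCof
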