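import Mathlib
import Groth.Agent.Lib.Helper3.IndCof.IndCof2

/-!
# Ind-objects of cofinite type: abstract theory, part 3 (cokernels)
-/

set_option autoImplicit false

open CategoryTheory CategoryTheory.Limits

universe v u

namespace Groth.Agent.H3.IndCof

variable {𝒜 : Type u} [Category.{v} 𝒜] [Abelian 𝒜] {Cc : ObjectProperty 𝒜} (hS : Setup Cc)

/-- a right exact sequence identifies the third term with a cokernel -/
noncomputable def cokernelIsoOfExact (S : ShortComplex 𝒜) (hex : S.Exact) [Epi S.g] :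
    cokernel S.f ≅ S.X₃ :=
  IsColimit.coconePointUniqueUpToIso (cokernelIsCokernel S.f) hex.gIsCokernel

lemma nsmul_comp_cokernel_π {T A : 𝒜} (n : ℕ) (b : T ⟶ A) :
    (n • b) ≫ cokernel.π (n • 𝟙 A) = 0 := by
  have : n • b = b ≫ (n • 𝟙 A) := (comp_nsmul_id b n).symm
  rw [this, Category.assoc, cokernel.condition, comp_zero]

include hS in
theorem Cc_cokernel_nsmul {A : 𝒜} (hA : CofType Cc A) (n : ℕ) (hn : 0 < n) :
    Cc (cokernel (n • 𝟙 A)) := by
  obtain ⟨M, hMpos, hM⟩ := exists_decomp hS hA n hn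
  have hzero : mulTor A n M ≫ torι A M ≫ cokernel.π (n • 𝟙 A) = 0 := by
    rw [mulTor_ι_assoc, nsmul_comp_cokernel_π]
  have hepi : Epi (torι A M ≫ cokernel.π (n • 𝟙 A)) := by
    rw [epi_iff_surjective_up_to_refinements]
    intro T z
    obtain ⟨T₁, π₁, hπ₁, x, hx⟩ := surjective_up_to_refinements_of_epi (cokernel.π (n • 𝟙 A)) z
    obtain ⟨T₂, π₂, hπ₂, a, b, ha, hab⟩ := hM x
    refine ⟨T₂, π₂ ≫ π₁, epi_comp _ _, torLift M a ha, ?_⟩
    rw [Category.assoc, hx, ← Category.assoc, hab, torLift_ι_assoc, Preadditive.add_comp,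
      nsmul_comp_cokernel_π, add_zero]
  have hex : (ShortComplex.mk _ _ hzero).Exact := by
    rw [ShortComplex.exact_iff_exact_up_to_refinements]
    intro T x₂ hx₂
    have hex' : (ShortComplex.mk (n • 𝟙 A) (cokernel.π (n • 𝟙 A))
      (cokernel.condition _)).Exact := ShortComplex.exact_cokernel _
    obtain ⟨T', π, hπ, b, hb⟩ := hex'.exact_up_to_refinements (x₂ ≫ torι A M)
      (by simpa using hx₂)
    dsimp at hb
    rw [comp_nsmul_id] at hb
    refine ⟨T', π, hπ, torLift (n * M) b ?_, ?_⟩
    · rw [mul_comm, mul_smul, ← hb, ← Category.assoc, nsmul_comp_torι]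
    · dsimp
      rw [← cancel_mono (torι A M)]
      simp only [Category.assoc, mulTor_ι, Preadditive.comp_nsmul, torLift_ι]
      exact hb
  have e := @cokernelIsoOfExact _ _ _ (ShortComplex.mk _ _ hzero) hex hepi
  exact hS.of_iso e (hS.coker _ (hA _ (Nat.mul_pos hn hMpos)) (hA M hMpos))

lemma torMap_mulTor {K A : 𝒜} (i : K ⟶ A) (n M : ℕ) :
    torMap i (n * M) ≫ mulTor A n M = mulTor K n M ≫ torMap i M := by
  rw [← cancel_mono (torι A M)]
  simp only [Category.assoc, mulTor_ι, Preadditive.comp_nsmul, torMap_ι]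
  rw [← Category.assoc, mulTor_ι, Preadditive.nsmul_comp]

include hS in
/-- the quotient of an object of cofinite type by a subobject of cofinite type is of cofinite
type -/
theorem CofType.cokernel_of_mono {K A : 𝒜} (i : K ⟶ A) [Mono i] (hK : CofType Cc K)
    (hA : CofType Cc A) : CofType Cc (cokernel i) := by
  intro n hn
  obtain ⟨M, hMpos, hM⟩ := exists_decomp hS hK n hn
  -- the object `W` of elements `a ∈ A[nM]` with `n a ∈ K[M]`
  have hexM : (ShortComplex.mk (torMap i M) (cokernel.π (torMap i M))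
    (cokernel.condition _)).Exact := ShortComplex.exact_cokernel _
  have hexi : (ShortComplex.mk i (cokernel.π i) (cokernel.condition _)).Exact :=
    ShortComplex.exact_cokernel _
  have hf₁ : torMap i (n * M) ≫ mulTor A n M ≫ cokernel.π (torMap i M) = 0 := by
    rw [← Category.assoc, torMap_mulTor, Category.assoc, cokernel.condition, comp_zero]
  have hg₁ : n • (kernel.ι (mulTor A n M ≫ cokernel.π (torMap i M)) ≫ torι A (n * M) ≫
      cokernel.π i) = 0 := by
    obtain ⟨T', π, hπ, k, hk⟩ := hexM.exact_up_to_refinements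
      (kernel.ι (mulTor A n M ≫ cokernel.π (torMap i M)) ≫ mulTor A n M)
      (by rw [Category.assoc]; exact kernel.condition _)
    dsimp at hk
    have h1 : n • (kernel.ι (mulTor A n M ≫ cokernel.π (torMap i M)) ≫ torι A (n * M) ≫
        cokernel.π i) = (kernel.ι (mulTor A n M ≫ cokernel.π (torMap i M)) ≫ mulTor A n M) ≫
          torι A M ≫ cokernel.π i := by
      rw [Category.assoc, mulTor_ι_assoc, Preadditive.nsmul_comp, Preadditive.comp_nsmul]
    rw [h1, ← cancel_epi π, comp_zero, ← Category.assoc, hk, Category.assoc, torMap_ι_assoc,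
      cokernel.condition, comp_zero, comp_zero]
  let f₁ : tor K (n * M) ⟶ kernel (mulTor A n M ≫ cokernel.π (torMap i M)) :=
    kernel.lift _ (torMap i (n * M)) hf₁
  let g₁ : kernel (mulTor A n M ≫ cokernel.π (torMap i M)) ⟶ tor (cokernel i) n :=
    torLift n _ hg₁
  have hzero : f₁ ≫ g₁ = 0 := by
    rw [← cancel_mono (torι (cokernel i) n)]
    simp only [f₁, g₁, Category.assoc, torLift_ι, kernel.lift_ι_assoc, torMap_ι_assoc,
      cokernel.condition, comp_zero, zero_comp]
  have hepi : Epi g₁ := by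
    rw [epi_iff_surjective_up_to_refinements]
    intro T z
    obtain ⟨T₁, π₁, hπ₁, a, ha⟩ := surjective_up_to_refinements_of_epi (cokernel.π i)
      (z ≫ torι (cokernel i) n)
    have hna : (n • a) ≫ cokernel.π i = 0 := by
      rw [Preadditive.nsmul_comp, ← ha, ← Preadditive.comp_nsmul, ← Preadditive.comp_nsmul,
        nsmul_torι, comp_zero, comp_zero]
    obtain ⟨T₂, π₂, hπ₂, k, hk⟩ := hexi.exact_up_to_refinements (n • a) hna
    dsimp at hk
    obtain ⟨T₃, π₃, hπ₃, k₀, k', hk₀, hkk⟩ := hM k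
    have hna' : n • (π₃ ≫ π₂ ≫ a - k' ≫ i) = k₀ ≫ i := by
      rw [smul_sub, ← Preadditive.comp_nsmul, ← Preadditive.comp_nsmul, hk, ← Category.assoc,
        hkk, Preadditive.add_comp, Preadditive.nsmul_comp]
      abel
    have ha' : (n * M) • (π₃ ≫ π₂ ≫ a - k' ≫ i) = 0 := by
      rw [mul_comm, mul_smul, hna', ← Preadditive.nsmul_comp, hk₀, zero_comp]
    have hw : torLift (n * M) _ ha' ≫ mulTor A n M ≫ cokernel.π (torMap i M) = 0 := by
      have : torLift (n * M) _ ha' ≫ mulTor A n M = torLift M k₀ hk₀ ≫ torMap i M := by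
        rw [← cancel_mono (torι A M)]
        simp only [Category.assoc, mulTor_ι, Preadditive.comp_nsmul, torLift_ι, torMap_ι,
          torLift_ι_assoc]
        exact hna'
      rw [← Category.assoc, this, Category.assoc, cokernel.condition, comp_zero]
    refine ⟨T₃, π₃ ≫ π₂ ≫ π₁, epi_comp _ _, kernel.lift _ _ hw, ?_⟩
    rw [← cancel_mono (torι (cokernel i) n)]
    simp only [g₁, Category.assoc, torLift_ι, kernel.lift_ι_assoc, torLift_ι_assoc, ha,
      Preadditive.sub_comp, cokernel.condition, comp_zero, sub_zero]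
  have hex : (ShortComplex.mk f₁ g₁ hzero).Exact := by
    rw [ShortComplex.exact_iff_exact_up_to_refinements]
    intro T w hw
    dsimp at w hw
    have hw' : (w ≫ kernel.ι _ ≫ torι A (n * M)) ≫ cokernel.π i = 0 := by
      have := congrArg (fun f => f ≫ torι (cokernel i) n) hw
      simpa [g₁] using this
    obtain ⟨T', π, hπ, k, hk⟩ := hexi.exact_up_to_refinements _ hw'
    dsimp at hk
    have hk0 : (n * M) • k = 0 := by
      rw [← cancel_mono i, zero_comp, Preadditive.nsmul_comp, ← hk, ← Preadditive.comp_nsmul,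
        ← Preadditive.comp_nsmul, ← Preadditive.comp_nsmul, nsmul_torι, comp_zero, comp_zero,
        comp_zero]
    refine ⟨T', π, hπ, torLift (n * M) k hk0, ?_⟩
    dsimp
    rw [← cancel_mono (kernel.ι (mulTor A n M ≫ cokernel.π (torMap i M))),
      ← cancel_mono (torι A (n * M))]
    simp only [f₁, Category.assoc, kernel.lift_ι, torMap_ι, torLift_ι_assoc]
    exact hk
  have e := @cokernelIsoOfExact _ _ _ (ShortComplex.mk f₁ g₁ hzero) hex hepi
  refine hS.of_iso e (hS.coker _ (hK _ (Nat.mul_pos hn hMpos)) ?_)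
  exact hS.ker _ (hA _ (Nat.mul_pos hn hMpos)) (hS.coker _ (hK M hMpos) (hA M hMpos))

lemma torKernel_aux1 {A B : 𝒜} (f : A ⟶ B) (m : ℕ) :
    (kernel.ι (torMap f m) ≫ torι A m) ≫ f = 0 := by
  rw [Category.assoc, ← torMap_ι, kernel.condition_assoc, zero_comp]

lemma torKernel_aux2 {A B : 𝒜} (f : A ⟶ B) (m : ℕ) :
    m • kernel.lift f (kernel.ι (torMap f m) ≫ torι A m) (torKernel_aux1 f m) = 0 := by
  apply (cancel_mono (kernel.ι f)).1
  rw [Preadditive.nsmul_comp, kernel.lift_ι, nsmul_comp_torι]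
  simp

/-- torsion commutes with kernels -/
noncomputable def torKernelIso {A B : 𝒜} (f : A ⟶ B) (m : ℕ) :
    tor (kernel f) m ≅ kernel (torMap f m) where
  hom := kernel.lift _ (torMap (kernel.ι f) m) (by
    rw [← cancel_mono (torι B m)]
    simp)
  inv := torLift m (kernel.lift f (kernel.ι (torMap f m) ≫ torι A m) (torKernel_aux1 f m))
    (torKernel_aux2 f m)
  hom_inv_id := by
    rw [← cancel_mono (torι _ m), ← cancel_mono (kernel.ι f)]
    simp
  inv_hom_id := by
    rw [← cancel_mono (kernel.ι _), ← cancel_mono (torι A m)]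
    simp

include hS in
theorem CofType.kernel {A B : 𝒜} (f : A ⟶ B) (hA : CofType Cc A) (hB : CofType Cc B) :
    CofType Cc (kernel f) :=
  fun m hm => hS.of_iso (torKernelIso f m).symm (hS.ker _ (hA m hm) (hB m hm))

include hS in
theorem CofType.cokernel {A B : 𝒜} (f : A ⟶ B) (hA : CofType Cc A) (hB : CofType Cc B) :
    CofType Cc (cokernel f) := by
  have h1 : CofType Cc (Abelian.coimage f) :=
    CofType.cokernel_of_mono hS (kernel.ι f) (CofType.kernel hS f hA hB) hA
  have h2 : CofType Cc (Abelian.image f) := CofType.of_iso hS (Abelian.coimageIsoImage f) h1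
  have h3 : CofType Cc (Limits.cokernel (Abelian.image.ι f)) :=
    CofType.cokernel_of_mono hS (Abelian.image.ι f) h2 hB
  have hex : (ShortComplex.mk (Abelian.image.ι f) (cokernel.π f) (kernel.condition _)).Exact :=
    ShortComplex.exact_kernel _
  have hepi : Epi (ShortComplex.mk (Abelian.image.ι f) (cokernel.π f) (kernel.condition _)).g :=
    inferInstanceAs (Epi (cokernel.π f))
  exact CofType.of_iso hS (@cokernelIsoOfExact _ _ _ _ hex hepi) h3

include hS in
theorem CofType.image {A B : 𝒜} (f : A ⟶ B) (hA : CofType Cc A) (hB : CofType Cc B) :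
    CofType Cc (imageSubobject f : 𝒜) := by
  have h1 : CofType Cc (Abelian.coimage f) :=
    CofType.cokernel_of_mono hS (kernel.ι f) (CofType.kernel hS f hA hB) hA
  have h2 : CofType Cc (Abelian.image f) := CofType.of_iso hS (Abelian.coimageIsoImage f) h1
  exact CofType.of_iso hS ((Abelian.imageIsoImage f) ≪≫ (imageSubobjectIso f).symm) h2

end Groth.Agent.H3.IndCof
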