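import Mathlib
import Groth.Agent.Lib.Helper3.IndCof.IndCof3

/-!
# Ind-objects of cofinite type: abstract theory, part 4 (the prime power case)
-/

set_option autoImplicit false

open CategoryTheory CategoryTheory.Limits

universe v u

namespace Groth.Agent.H3.IndCof

variable {𝒜 : Type u} [Category.{v} 𝒜] [Abelian 𝒜]

/-- descent of factorisations through a monomorphism along an epimorphism -/
lemma factors_of_epi_comp {T' T S A : 𝒜} (π : T' ⟶ T) [Epi π] (i : S ⟶ A) [Mono i] (x : T ⟶ A)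
    (y : T' ⟶ S) (h : π ≫ x = y ≫ i) : ∃ y' : T ⟶ S, y' ≫ i = x := by
  have hx : x ≫ cokernel.π i = 0 := by
    rw [← cancel_epi π, ← Category.assoc, h, Category.assoc, cokernel.condition, comp_zero,
      comp_zero]
  have hl := Abelian.monoIsKernelOfCokernel _ (cokernelIsCokernel i)
  exact ⟨(KernelFork.IsLimit.lift' hl x hx).1, (KernelFork.IsLimit.lift' hl x hx).2⟩

/-- element-level consequence of an inclusion of images -/
lemma exists_of_imageSubobject_le {X X' Y : 𝒜} (f : X ⟶ Y) (f' : X' ⟶ Y)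
    (h : imageSubobject f ≤ imageSubobject f') {T : 𝒜} (x : T ⟶ X) :
    ∃ (T' : 𝒜) (π : T' ⟶ T) (_ : Epi π) (y : T' ⟶ X'), π ≫ x ≫ f = y ≫ f' := by
  obtain ⟨T', π, hπ, y, hy⟩ := surjective_up_to_refinements_of_epi
    (factorThruImageSubobject f') (x ≫ factorThruImageSubobject f ≫ Subobject.ofLE _ _ h)
  refine ⟨T', π, hπ, y, ?_⟩
  have h1 := congrArg (fun g => g ≫ (imageSubobject f').arrow) hy
  simpa using h1

lemma torMap_comp {A B D : 𝒜} (f : A ⟶ B) (g : B ⟶ D) (m : ℕ) :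
    torMap (f ≫ g) m = torMap f m ≫ torMap g m := by
  rw [← cancel_mono (torι D m)]
  simp

/-- a doubly indexed decreasing family in which chains stabilise is eventually constant in the
first index, uniformly in the second -/
lemma double_stab {α : Type*} [PartialOrder α] (E : ℕ → ℕ → α)
    (h1 : ∀ k m m', m ≤ m' → E m' k ≤ E m k) (h2 : ∀ m k k', k ≤ k' → E m k' ≤ E m k)
    (hst : ∀ f : ℕ → α, Antitone f → (∀ j, ∃ m k, f j = E m k) →
      ∃ N, ∀ m, N ≤ m → f m = f N) :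
    ∃ m₁, ∀ m, m₁ ≤ m → ∀ k, E m k = E m₁ k := by
  obtain ⟨j₀, hj₀⟩ := hst (fun j => E j j)
    (fun a b hab => (h1 b a b hab).trans (h2 a a b hab)) (fun j => ⟨j, j, rfl⟩)
  have hcol : ∀ k, ∃ N, ∀ m, N ≤ m → E m k = E N k := fun k =>
    hst (fun m => E m k) (fun a b hab => h1 k a b hab) (fun j => ⟨j, k, rfl⟩)
  choose Nk hNk using hcol
  have hbig : ∀ m k, j₀ ≤ m → j₀ ≤ k → E m k = E j₀ j₀ := by
    intro m k hm hk
    apply le_antisymm
    · exact (h1 k j₀ m hm).trans (h2 j₀ j₀ k hk)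
    · have := hj₀ (max m k) (le_trans hm (le_max_left _ _))
      rw [← this]
      exact (h1 _ m (max m k) (le_max_left _ _)).trans (h2 m k (max m k) (le_max_right _ _))
  refine ⟨max j₀ ((Finset.range j₀).sup Nk), fun m hm k => ?_⟩
  by_cases hk : k < j₀
  · have hle : Nk k ≤ (Finset.range j₀).sup Nk := Finset.le_sup (Finset.mem_range.2 hk)
    rw [hNk k m (by omega), hNk k (max j₀ ((Finset.range j₀).sup Nk)) (by omega)]
  · rw [hbig m k (le_trans (le_max_left _ _) hm) (by omega),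
      hbig _ k (le_max_left _ _) (by omega)]

section chain

variable (p : ℕ)

/-- the map `X[p^k * p] → A[p]`, `x ↦ p^k x`, for a subobject `X` of `A` -/
noncomputable def eMap {A : 𝒜} (X : Subobject A) (k : ℕ) :
    tor (X : 𝒜) (p ^ k * p) ⟶ tor A p :=
  mulTor (X : 𝒜) (p ^ k) p ≫ torMap X.arrow p

lemma eMap_ι {A : 𝒜} (X : Subobject A) (k : ℕ) :
    eMap p X k ≫ torι A p = p ^ k • (torι (X : 𝒜) (p ^ k * p) ≫ X.arrow) := by
  simp [eMap]

lemma eMap_le_of_le {A : 𝒜} {X X' : Subobject A} (h : X' ≤ X) (k : ℕ) :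
    imageSubobject (eMap p X' k) ≤ imageSubobject (eMap p X k) := by
  refine imageSubobject_le_of_fac _ _ (torMap (Subobject.ofLE _ _ h) (p ^ k * p)) ?_
  rw [← cancel_mono (torι A p)]
  simp [eMap_ι]

lemma eMap_succ_le {A : 𝒜} (X : Subobject A) (k : ℕ) :
    imageSubobject (eMap p X (k + 1)) ≤ imageSubobject (eMap p X k) := by
  refine imageSubobject_le_of_fac _ _
    (torLift (p ^ k * p) (p • torι (X : 𝒜) (p ^ (k + 1) * p)) ?_) ?_
  · rw [← mul_smul]
    have : p ^ k * p * p = p ^ (k + 1) * p := by ring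
    rw [this, nsmul_torι]
  · rw [← cancel_mono (torι A p)]
    simp only [Category.assoc, eMap_ι, Preadditive.comp_nsmul, torLift_ι_assoc,
      Preadditive.nsmul_comp]
    rw [← mul_smul, pow_succ]

variable {Cc : ObjectProperty 𝒜} (hS : Setup Cc)
  (exhp : ∀ {A Z : 𝒜} (g : A ⟶ Z), (∀ k, torι A (p ^ k) ≫ g = 0) → g = 0)

include hS exhp in
/-- **Artinian property** of objects of cofinite type -/
theorem chain_stabilizes (A : 𝒜) (hA : ∀ k, Cc (tor A (p ^ k))) (S : ℕ → Subobject A)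
    (hanti : Antitone S) (hcof : ∀ m k, Cc (tor (S m : 𝒜) (p ^ k))) :
    ∃ N, ∀ m, N ≤ m → S m = S N := by
  have hA1 : Cc (tor A p) := by simpa using hA 1
  have hE1 : ∀ k m m', m ≤ m' →
      imageSubobject (eMap p (S m') k) ≤ imageSubobject (eMap p (S m) k) :=
    fun k m m' h => eMap_le_of_le p (hanti h) k
  have hE2 : ∀ m k k', k ≤ k' →
      imageSubobject (eMap p (S m) k') ≤ imageSubobject (eMap p (S m) k) := fun m =>
    (antitone_nat_of_succ_le (fun k => eMap_succ_le p (S m) k))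
  have hCc : ∀ m k, Cc ((imageSubobject (eMap p (S m) k) : Subobject _) : 𝒜) := fun m k =>
    hS.image _ (hcof m (k + 1)) hA1
  obtain ⟨m₁, hm₁⟩ := double_stab (fun m k => imageSubobject (eMap p (S m) k)) hE1 hE2
    (fun f hf hfE => hS.art _ hA1 f hf (fun j => by
      obtain ⟨m, k, h⟩ := hfE j; rw [h]; exact hCc m k))
  refine ⟨m₁, fun m hm => ?_⟩
  have key : ∀ k, ∀ {T : 𝒜} (x : T ⟶ A), (∃ x₁ : T ⟶ (S m₁ : 𝒜), x₁ ≫ (S m₁).arrow = x) →
      p ^ k • x = 0 → ∃ y : T ⟶ (S m : 𝒜), y ≫ (S m).arrow = x := by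
    intro k
    induction k with
    | zero =>
      intro T x _ hx
      exact ⟨0, by simpa using hx.symm⟩
    | succ k ih =>
      intro T x hx1 hx
      obtain ⟨x₁, hx₁⟩ := hx1
      have hx₁0 : (p ^ k * p) • x₁ = 0 := by
        rw [← cancel_mono (S m₁).arrow, Preadditive.nsmul_comp, hx₁, zero_comp, ← pow_succ]
        exact hx
      obtain ⟨T', π, hπ, y, hy⟩ := exists_of_imageSubobject_le (eMap p (S m₁) k)
        (eMap p (S m) k) (le_of_eq (hm₁ m hm k).symm) (torLift (p ^ k * p) x₁ hx₁0)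
      have hy' := congrArg (fun g => g ≫ torι A p) hy
      simp only [Category.assoc, eMap_ι, Preadditive.comp_nsmul, torLift_ι_assoc, hx₁] at hy'
      obtain ⟨z, hz⟩ := ih (π ≫ x - y ≫ torι _ _ ≫ (S m).arrow)
        ⟨π ≫ x₁ - y ≫ torι _ _ ≫ Subobject.ofLE _ _ (hanti hm), by simp [hx₁]⟩
        (by rw [smul_sub]; exact sub_eq_zero.2 hy')
      exact factors_of_epi_comp π (S m).arrow x (z + y ≫ torι _ _) (by simp [hz])
  apply le_antisymm (hanti hm)
  have hepi : Epi (Subobject.ofLE _ _ (hanti hm)) := by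
    apply Abelian.epi_of_cokernel_π_eq_zero
    apply exhp
    intro k
    obtain ⟨y, hy⟩ := key k (torι _ (p ^ k) ≫ (S m₁).arrow) ⟨_, rfl⟩
      (by rw [← Preadditive.nsmul_comp, nsmul_torι, zero_comp])
    have : torι _ (p ^ k) = y ≫ Subobject.ofLE _ _ (hanti hm) := by
      rw [← cancel_mono (S m₁).arrow]; simp [hy]
    rw [this, Category.assoc, cokernel.condition, comp_zero]
  have hiso : IsIso (Subobject.ofLE _ _ (hanti hm)) := isIso_of_mono_of_epi _
  exact Subobject.le_of_comm (inv (Subobject.ofLE _ _ (hanti hm))) (by simp)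

end chain

section ppow

lemma eq_zero_of_coprime_smul {T X : 𝒜} {a b : ℕ} (h : Nat.Coprime a b) (z : T ⟶ X)
    (ha : a • z = 0) (hb : b • z = 0) : z = 0 := by
  have hbez := Nat.gcd_eq_gcd_ab a b
  rw [h] at hbez
  have h1 : ((a : ℤ) * Nat.gcdA a b + (b : ℤ) * Nat.gcdB a b) • z = z := by
    rw [← hbez]; simp
  rw [add_smul, mul_comm (a : ℤ), mul_comm (b : ℤ), mul_smul, mul_smul, natCast_zsmul,
    natCast_zsmul, ha, hb, smul_zero, smul_zero, add_zero] at h1
  exact h1.symm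

variable (p : ℕ) (hp : p.Prime) {Cc : ObjectProperty 𝒜} (hS : Setup Cc)
  (exhp : ∀ {A Z : 𝒜} (g : A ⟶ Z), (∀ k, torι A (p ^ k) ≫ g = 0) → g = 0)

include exhp in
/-- under `p`-exhaustion, a point killed by an integer prime to `p` is zero -/
lemma eq_zero_of_coprime {T A : 𝒜} (m : ℕ) (hm : Nat.Coprime m p) (x : T ⟶ A)
    (hx : m • x = 0) : x = 0 := by
  have hK : 𝟙 (tor A m) = 0 := by
    apply exhp
    intro k
    rw [Category.comp_id]
    refine eq_zero_of_coprime_smul (Nat.Coprime.pow_right k hm) _ ?_ (nsmul_torι _ _)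
    rw [← cancel_mono (torι A m), Preadditive.nsmul_comp, zero_comp, ← Preadditive.comp_nsmul,
      nsmul_torι, comp_zero]
  rw [← torLift_ι m x hx, ← Category.id_comp (torι A m), hK, zero_comp, comp_zero]

include hS exhp hp in
/-- `p`-power cofinite type implies cofinite type -/
theorem cofType_of_pow (A : 𝒜) (hA : ∀ k, Cc (tor A (p ^ k))) : CofType Cc A := by
  intro m hm
  obtain ⟨v, m', hm', rfl⟩ := Nat.exists_eq_pow_mul_and_not_dvd hm.ne' p hp.ne_one
  have hcop : Nat.Coprime m' p := ((Nat.Prime.coprime_iff_not_dvd hp).2 hm').symm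
  refine hS.of_iso (?_ : tor A (p ^ v) ≅ tor A (p ^ v * m')) (hA v)
  exact
    { hom := torLift _ (torι A (p ^ v)) (by rw [mul_comm, mul_smul, nsmul_torι, smul_zero])
      inv := torLift _ (torι A (p ^ v * m')) (eq_zero_of_coprime p exhp m' hcop _
        (by rw [← mul_smul, mul_comm, nsmul_torι]))
      hom_inv_id := by rw [← cancel_mono (torι A _)]; simp
      inv_hom_id := by rw [← cancel_mono (torι A _)]; simp }

include hS exhp hp in
/-- the images of multiplication by `p ^ n` stabilise -/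
theorem image_pow_stabilizes (A : 𝒜) (hA : ∀ k, Cc (tor A (p ^ k))) :
    ∃ N, ∀ n, N ≤ n → imageSubobject ((p ^ n) • 𝟙 A) = imageSubobject ((p ^ N) • 𝟙 A) := by
  have hA' := cofType_of_pow p hp hS exhp A hA
  apply chain_stabilizes p hS exhp A hA (fun n => imageSubobject ((p ^ n) • 𝟙 A))
  · refine antitone_nat_of_succ_le (fun n => imageSubobject_le_of_fac _ _ (p • 𝟙 A) ?_)
    rw [nsmul_id_comp, ← mul_smul, pow_succ, mul_comm]
  · intro m k
    exact CofType.image hS _ hA' hA' (p ^ k) (pow_pos hp.pos k)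

include hS exhp hp in
/-- the divisible part -/
theorem divisible_part (A : 𝒜) (hA : ∀ k, Cc (tor A (p ^ k)))
    (hCtor : ∀ X : 𝒜, Cc X → ∃ k : ℕ, (p ^ k) • 𝟙 X = 0) (N : ℕ)
    (hN : ∀ n, N ≤ n → imageSubobject ((p ^ n) • 𝟙 A) = imageSubobject ((p ^ N) • 𝟙 A)) :
    (∀ n : ℕ, Cc (tor ((imageSubobject ((p ^ N) • 𝟙 A) : Subobject A) : 𝒜) (p ^ n))) ∧
    Epi (p • 𝟙 ((imageSubobject ((p ^ N) • 𝟙 A) : Subobject A) : 𝒜)) ∧
    (∀ D : Subobject A, Epi (p • 𝟙 (D : 𝒜)) → D ≤ imageSubobject ((p ^ N) • 𝟙 A)) ∧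
    (∀ (Q : 𝒜) (q : A ⟶ Q), Epi q → Cc Q →
      (imageSubobject ((p ^ N) • 𝟙 A)).arrow ≫ q = 0) := by
  have hA' := cofType_of_pow p hp hS exhp A hA
  refine ⟨fun n => CofType.image hS _ hA' hA' (p ^ n) (pow_pos hp.pos n), ?_, ?_, ?_⟩
  · rw [epi_iff_surjective_up_to_refinements]
    intro T z
    obtain ⟨T₁, π₁, hπ₁, a, ha⟩ := surjective_up_to_refinements_of_epi
      (factorThruImageSubobject ((p ^ N) • 𝟙 A)) z
    obtain ⟨T₂, π₂, hπ₂, y, hy⟩ := exists_of_imageSubobject_le ((p ^ N) • 𝟙 A)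
      ((p ^ (N + 1)) • 𝟙 A) (le_of_eq (hN (N + 1) (by omega)).symm) a
    refine ⟨T₂, π₂ ≫ π₁, epi_comp _ _, y ≫ factorThruImageSubobject ((p ^ N) • 𝟙 A), ?_⟩
    rw [← cancel_mono (imageSubobject ((p ^ N) • 𝟙 A)).arrow]
    have e1 : ((π₂ ≫ π₁) ≫ z) ≫ (imageSubobject ((p ^ N) • 𝟙 A)).arrow =
        π₂ ≫ a ≫ ((p ^ N) • 𝟙 A) := by
      rw [Category.assoc, Category.assoc, ← Category.assoc π₁, ha, Category.assoc,
        imageSubobject_arrow_comp]
    have e2 : ((y ≫ factorThruImageSubobject ((p ^ N) • 𝟙 A)) ≫ (p • 𝟙 _)) ≫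
        (imageSubobject ((p ^ N) • 𝟙 A)).arrow = p • (y ≫ ((p ^ N) • 𝟙 A)) := by
      rw [Category.assoc, nsmul_id_comp, Preadditive.comp_nsmul, Category.assoc,
        imageSubobject_arrow_comp]
    rw [e1, e2, hy, comp_nsmul_id, comp_nsmul_id, ← mul_smul, pow_succ, mul_comm]
  · intro D hD
    have hpow : ∀ j : ℕ, Epi ((p ^ j) • 𝟙 (D : 𝒜)) := by
      intro j
      induction j with
      | zero => simp only [pow_zero, one_smul]; infer_instance
      | succ j ih =>
        have : (p ^ (j + 1)) • 𝟙 (D : 𝒜) = ((p ^ j) • 𝟙 (D : 𝒜)) ≫ (p • 𝟙 (D : 𝒜)) := by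
          rw [comp_nsmul_id, ← mul_smul, pow_succ, mul_comm]
        rw [this]
        exact epi_comp _ _
    have := hpow N
    obtain ⟨y', hy'⟩ := factors_of_epi_comp ((p ^ N) • 𝟙 (D : 𝒜))
      (imageSubobject ((p ^ N) • 𝟙 A)).arrow D.arrow
      (D.arrow ≫ factorThruImageSubobject ((p ^ N) • 𝟙 A))
      (by rw [Category.assoc, imageSubobject_arrow_comp, comp_nsmul_id, nsmul_id_comp])
    exact Subobject.le_of_comm y' hy'
  · intro Q q hq hQ
    obtain ⟨k, hk⟩ := hCtor Q hQ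
    rw [← hN (N + k) (by omega)]
    rw [← cancel_epi (factorThruImageSubobject ((p ^ (N + k)) • 𝟙 A)), comp_zero,
      imageSubobject_arrow_comp_assoc, nsmul_id_comp, pow_add, mul_comm, mul_smul,
      ← comp_nsmul_id, hk, comp_zero]

end ppow

end Groth.Agent.H3.IndCof
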