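import Mathlib
import Groth.Agent.Lib.Helper3.IndCof.IndCof4

/-!
# Ind-objects of cofinite type: the case of `Ind C`
-/

set_option autoImplicit false

open CategoryTheory CategoryTheory.Limits

universe v

namespace Groth.Agent.H3.IndCof

variable {C : Type v} [SmallCategory C] [Abelian C]

noncomputable instance yonedaAdditive : (Ind.yoneda (C := C)).Additive :=
  Functor.additive_of_preserves_binary_products _

/-- the class of ind-objects isomorphic to objects of `C` -/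
noncomputable abbrev Cc (C : Type v) [SmallCategory C] [Abelian C] : ObjectProperty (Ind C) :=
  (Ind.yoneda (C := C)).essImage

lemma Cc_kernel {X Y : Ind C} (f : X ⟶ Y) (hX : Cc C X) (hY : Cc C Y) : Cc C (kernel f) := by
  have hg : Ind.yoneda.map (Ind.yoneda.preimage (hX.getIso.hom ≫ f ≫ hY.getIso.inv)) =
      hX.getIso.hom ≫ f ≫ hY.getIso.inv := Functor.map_preimage _ _
  have e1 : kernel (Ind.yoneda.map (Ind.yoneda.preimage (hX.getIso.hom ≫ f ≫ hY.getIso.inv))) ≅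
      kernel f := kernel.mapIso _ _ hX.getIso hY.getIso (by rw [hg]; simp)
  exact ⟨_, ⟨PreservesKernel.iso _ _ ≪≫ e1⟩⟩

lemma Cc_cokernel {X Y : Ind C} (f : X ⟶ Y) (hX : Cc C X) (hY : Cc C Y) :
    Cc C (cokernel f) := by
  have hg : Ind.yoneda.map (Ind.yoneda.preimage (hX.getIso.hom ≫ f ≫ hY.getIso.inv)) =
      hX.getIso.hom ≫ f ≫ hY.getIso.inv := Functor.map_preimage _ _
  have e1 : cokernel (Ind.yoneda.map
      (Ind.yoneda.preimage (hX.getIso.hom ≫ f ≫ hY.getIso.inv))) ≅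
      cokernel f := cokernel.mapIso _ _ hX.getIso hY.getIso (by rw [hg]; simp)
  exact ⟨_, ⟨PreservesCokernel.iso _ _ ≪≫ e1⟩⟩

lemma Cc_art (hart : ∀ X : C, IsArtinianObject X) (X' : Ind C) (hX' : Cc C X')
    (S : ℕ → Subobject X') (hanti : Antitone S) (hcc : ∀ j, Cc C (S j : Ind C)) :
    ∃ N, ∀ m, N ≤ m → S m = S N := by
  have hg : ∀ j, Ind.yoneda.map
      (Ind.yoneda.preimage ((hcc j).getIso.hom ≫ (S j).arrow ≫ hX'.getIso.inv)) =
      (hcc j).getIso.hom ≫ (S j).arrow ≫ hX'.getIso.inv := fun j => Functor.map_preimage _ _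
  have hmono : ∀ j, Mono
      (Ind.yoneda.preimage ((hcc j).getIso.hom ≫ (S j).arrow ≫ hX'.getIso.inv)) := fun j =>
    Functor.mono_of_mono_map Ind.yoneda (by rw [hg]; infer_instance)
  have key : ∀ i j, Subobject.mk
      (Ind.yoneda.preimage ((hcc i).getIso.hom ≫ (S i).arrow ≫ hX'.getIso.inv)) ≤
      Subobject.mk
        (Ind.yoneda.preimage ((hcc j).getIso.hom ≫ (S j).arrow ≫ hX'.getIso.inv)) ↔
      S i ≤ S j := by
    intro i j
    constructor
    · intro h
      refine Subobject.le_of_comm ((hcc i).getIso.inv ≫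
        Ind.yoneda.map (Subobject.ofMkLEMk _ _ h) ≫ (hcc j).getIso.hom) ?_
      have h1 := congrArg (fun f => Ind.yoneda.map f) (Subobject.ofMkLEMk_comp h)
      simp only [Functor.map_comp, hg] at h1
      have h2 := congrArg (fun f => (hcc i).getIso.inv ≫ f ≫ hX'.getIso.hom) h1
      simpa using h2
    · intro h
      refine Subobject.mk_le_mk_of_comm (Ind.yoneda.preimage ((hcc i).getIso.hom ≫
        Subobject.ofLE _ _ h ≫ (hcc j).getIso.inv)) ?_
      apply Ind.yoneda.map_injective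
      simp [hg]
  have := hart hX'.witness
  obtain ⟨N, hN⟩ := antitone_chain_condition_of_isArtinianObject (X := hX'.witness)
    ⟨fun j => OrderDual.toDual (Subobject.mk
      (Ind.yoneda.preimage ((hcc j).getIso.hom ≫ (S j).arrow ≫ hX'.getIso.inv))),
      fun i j hij => (key j i).2 (hanti hij)⟩
  refine ⟨N, fun m hm => le_antisymm (hanti hm) ?_⟩
  rw [← key]
  exact le_of_eq (OrderDual.toDual.injective (hN m hm))

lemma Cc_exh (htor : ∀ X : C, ∃ n : ℕ, 0 < n ∧ n • 𝟙 X = 0) {A Z : Ind C} (g : A ⟶ Z)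
    (h : ∀ m, 0 < m → torι A m ≫ g = 0) : g = 0 := by
  rw [← cancel_epi (Ind.colimitPresentationCompYoneda A).hom, comp_zero]
  apply colimit.hom_ext
  intro i
  rw [comp_zero]
  obtain ⟨n, hn, hn0⟩ := htor (A.presentation.F.obj i)
  have h0 : n • (colimit.ι (A.presentation.F ⋙ Ind.yoneda) i ≫
      (Ind.colimitPresentationCompYoneda A).hom) = 0 := by
    rw [← nsmul_id_comp]
    have : n • 𝟙 ((A.presentation.F ⋙ Ind.yoneda).obj i) = 0 := by
      change n • 𝟙 (Ind.yoneda.obj _) = 0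
      rw [← Ind.yoneda.map_id, ← Functor.map_nsmul, hn0, Functor.map_zero]
    rw [this, zero_comp]
  rw [← Category.assoc, ← torLift_ι n _ h0, Category.assoc, h n hn, comp_zero]

lemma Cc_exhp (p : ℕ) (htor : ∀ X : C, ∃ n : ℕ, (p ^ n) • 𝟙 X = 0) {A Z : Ind C} (g : A ⟶ Z)
    (h : ∀ k, torι A (p ^ k) ≫ g = 0) : g = 0 := by
  rw [← cancel_epi (Ind.colimitPresentationCompYoneda A).hom, comp_zero]
  apply colimit.hom_ext
  intro i
  rw [comp_zero]
  obtain ⟨n, hn0⟩ := htor (A.presentation.F.obj i)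
  have h0 : (p ^ n) • (colimit.ι (A.presentation.F ⋙ Ind.yoneda) i ≫
      (Ind.colimitPresentationCompYoneda A).hom) = 0 := by
    rw [← nsmul_id_comp]
    have : (p ^ n) • 𝟙 ((A.presentation.F ⋙ Ind.yoneda).obj i) = 0 := by
      change (p ^ n) • 𝟙 (Ind.yoneda.obj _) = 0
      rw [← Ind.yoneda.map_id, ← Functor.map_nsmul, hn0, Functor.map_zero]
    rw [this, zero_comp]
  rw [← Category.assoc, ← torLift_ι (p ^ n) _ h0, Category.assoc, h n, comp_zero]

lemma Cc_tor (p : ℕ) (htor : ∀ X : C, ∃ n : ℕ, (p ^ n) • 𝟙 X = 0) (X : Ind C) (hX : Cc C X) :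
    ∃ k : ℕ, (p ^ k) • 𝟙 X = 0 := by
  obtain ⟨k, hk⟩ := htor hX.witness
  refine ⟨k, ?_⟩
  have h1 : (p ^ k) • 𝟙 (Ind.yoneda.obj hX.witness) = 0 := by
    rw [← Ind.yoneda.map_id, ← Functor.map_nsmul, hk, Functor.map_zero]
  have h2 : 𝟙 X = hX.getIso.inv ≫ 𝟙 (Ind.yoneda.obj hX.witness) ≫ hX.getIso.hom := by simp
  rw [h2, ← Preadditive.comp_nsmul, ← Preadditive.nsmul_comp, h1, zero_comp, comp_zero]

/-- the general setup -/
theorem setup (hart : ∀ X : C, IsArtinianObject X)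
    (htor : ∀ X : C, ∃ n : ℕ, 0 < n ∧ n • 𝟙 X = 0) : Setup (Cc C) where
  of_iso e h := Functor.essImage.ofIso e h
  ker f hX hY := Cc_kernel f hX hY
  coker f hX hY := Cc_cokernel f hX hY
  art X hX S hanti hcc := Cc_art hart X hX S hanti hcc
  exh g h := Cc_exh htor g h

/-- the prime power setup -/
theorem setupP (hart : ∀ X : C, IsArtinianObject X) (p : ℕ) (hp : p.Prime)
    (htor : ∀ X : C, ∃ n : ℕ, (p ^ n) • 𝟙 X = 0) : Setup (Cc C) :=
  setup hart (fun X => by
    obtain ⟨n, hn⟩ := htor X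
    exact ⟨p ^ n, pow_pos hp.pos n, hn⟩)

end Groth.Agent.H3.IndCof
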